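import Groth.Agent.QRepLib.Naive
import Mathlib.AlgebraicGeometry.Morphisms.Smooth
import Mathlib.RingTheory.Smooth.Basic
import Mathlib.AlgebraicGeometry.Geometrically.Irreducible

/-!
# Unit functions near an irreducible special fibre

`X` is smooth over a local ring `V` with maximal ideal generated by a regular element, its special fibre is
irreducible and `e` is a section.  A unit on the locus where the generator is invertible which is `1` on `e`
is regular on every affine open.
-/

universe u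

open CategoryTheory Limits AlgebraicGeometry TensorProduct TopologicalSpace

set_option autoImplicit false
set_option backward.isDefEq.respectTransparency false
set_option backward.isDefEq.respectTransparency.types false

noncomputable section

namespace Groth.Agent.GrpHomExt

variable {V : Type u} [CommRing V] {X : Scheme.{u}} (h : X ⟶ Spec (CommRingCat.of V))

/-- The structure map to the functions on an open. -/
def str (U : X.Opens) : V →+* Γ(X, U) :=
  ((Scheme.ΓSpecIso (CommRingCat.of V)).inv ≫ h.appLE ⊤ U le_top).hom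

theorem res_str {U U' : X.Opens} (i : U' ≤ U) (v : V) :
    X.presheaf.map (homOfLE i).op (str h U v) = str h U' v := by
  simp only [str, CommRingCat.hom_comp, RingHom.comp_apply]
  rw [← Scheme.Hom.appLE_map h (le_top : U ≤ h ⁻¹ᵁ ⊤) (homOfLE i).op]
  rfl

theorem str_pullback {Y : Scheme.{u}} (e : Y ⟶ X) {k : Y ⟶ Spec (CommRingCat.of V)} (he : e ≫ h = k)
    {U : X.Opens} {U' : Y.Opens} (i : U' ≤ e ⁻¹ᵁ U) (v : V) : e.appLE U U' i (str h U v) = str k U' v := by
  subst he
  simp only [str, CommRingCat.hom_comp, RingHom.comp_apply]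
  rw [← CommRingCat.comp_apply, Scheme.Hom.appLE_comp_appLE]

/-- The locus where `v` is invertible. -/
def locus (v : V) : X.Opens := X.basicOpen (str h ⊤ v)

theorem basicOpen_str (U : X.Opens) (v : V) : X.basicOpen (str h U v) = U ⊓ locus h v := by
  rw [← res_str h (le_top : U ≤ ⊤), Scheme.basicOpen_res]
  rfl

theorem mem_locus_iff (v : V) (x : X) : x ∈ locus h v ↔ v ∉ (h x).asIdeal := by
  have : locus h v = h ⁻¹ᵁ (Spec (CommRingCat.of V)).basicOpen ((Scheme.ΓSpecIso (CommRingCat.of V)).inv v) := by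
    rw [Scheme.preimage_basicOpen]
    simp [locus, str, Scheme.Hom.appLE]
  rw [this, basicOpen_eq_of_affine]
  rfl

variable [IsLocalRing V] {π : V} (hπ : π ∈ nonZeroDivisors V)
  (hmax : Ideal.span {π} = IsLocalRing.maximalIdeal V)

section Affine

variable [Smooth h] {W : X.Opens} (hW : IsAffineOpen W)

include hW in
theorem smooth_str : (str h W).Smooth := by
  have h1 : (h.appLE ⊤ W le_top).hom.Smooth :=
    HasRingHomProperty.appLE @Smooth h inferInstance ⟨⊤, isAffineOpen_top _⟩ ⟨W, hW⟩ le_top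
  exact RingHom.Smooth.respectsIso.2 (h.appLE ⊤ W le_top).hom
    (Scheme.ΓSpecIso (CommRingCat.of V)).symm.commRingCatIsoToRingEquiv h1

include hW hπ in
theorem str_mul_cancel {a b : Γ(X, W)} (n : ℕ) (hab : str h W π ^ n * a = str h W π ^ n * b) : a = b := by
  let _ : Algebra V Γ(X, W) := (str h W).toAlgebra
  haveI : Algebra.Smooth V Γ(X, W) := smooth_str h hW
  haveI : Module.Flat V Γ(X, W) := inferInstance

  have hreg : IsSMulRegular Γ(X, W) (π ^ n) :=
    (Module.Flat.isSMulRegular_of_nonZeroDivisors (pow_mem hπ n))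
  refine hreg ?_
  simpa [Algebra.smul_def, RingHom.algebraMap_toAlgebra] using hab

include hW hmax in
theorem radical_str {a : Γ(X, W)} {n : ℕ} (ha : a ^ n ∈ Ideal.span {str h W π}) : a ∈ Ideal.span {str h W π} := by
  let _ : Algebra V Γ(X, W) := (str h W).toAlgebra
  haveI : Algebra.Smooth V Γ(X, W) := smooth_str h hW
  haveI : (Ideal.span {π}).IsMaximal := hmax ▸ IsLocalRing.maximalIdeal.isMaximal V
  let _ : Field (V ⧸ Ideal.span {π}) := Ideal.Quotient.field _
  have hred := QRepLib.isReduced_of_smooth_algebra (V ⧸ Ideal.span {π}) ((V ⧸ Ideal.span {π}) ⊗[V] Γ(X, W))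
  let e := Algebra.TensorProduct.quotIdealMapEquivTensorQuot Γ(X, W) (Ideal.span {π})
  have hI : (Ideal.span {π}).map (algebraMap V Γ(X, W)) = Ideal.span {str h W π} := by
    rw [Ideal.map_span, Set.image_singleton]; rfl
  rw [← hI] at ha ⊢
  have h0 : (Ideal.Quotient.mk _ a : Γ(X, W) ⧸ (Ideal.span {π}).map (algebraMap V Γ(X, W))) ^ n = 0 := by
    rw [← map_pow, Ideal.Quotient.eq_zero_iff_mem]; exact ha
  haveI : _root_.IsReduced (Γ(X, W) ⧸ (Ideal.span {π}).map (algebraMap V Γ(X, W))) :=
    isReduced_of_injective ((Algebra.TensorProduct.comm V Γ(X, W) (V ⧸ Ideal.span {π})).toRingHom.comp e.toRingHom)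
      ((Algebra.TensorProduct.comm V Γ(X, W) (V ⧸ Ideal.span {π})).injective.comp e.injective)
  exact Ideal.Quotient.eq_zero_iff_mem.mp (IsReduced.eq_zero _ ⟨n, h0⟩)

variable {ξ : X} (hξ : ξ ∈ W) (hξs : h ξ = IsLocalRing.closedPoint V)
  (hgen : ∀ x, h x = IsLocalRing.closedPoint V → ξ ⤳ x)

include hmax in
theorem closedPoint_of_mem {x : X} (hx : π ∈ (h x).asIdeal) : h x = IsLocalRing.closedPoint V := by
  refine PrimeSpectrum.ext (le_antisymm (IsLocalRing.le_maximalIdeal (h x).isPrime.ne_top) ?_)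
  show IsLocalRing.maximalIdeal V ≤ _
  rw [← hmax, Ideal.span_le, Set.singleton_subset_iff]
  exact hx

include hW hπ hmax hξ hξs hgen in
/-- The generic point of the special fibre cuts out the multiples of the generator. -/
theorem dvd_iff (a : Γ(X, W)) : str h W π ∣ a ↔ ξ ∉ X.basicOpen a := by
  constructor
  · rintro ⟨c, rfl⟩ hmem
    rw [Scheme.basicOpen_mul] at hmem
    have h1 : ξ ∈ X.basicOpen (str h W π) := hmem.1
    rw [basicOpen_str] at h1
    have h2 := (mem_locus_iff h π ξ).mp h1.2
    rw [hξs] at h2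
    exact h2 (by show π ∈ IsLocalRing.maximalIdeal V; exact hmax ▸ Ideal.mem_span_singleton_self π)
  · intro ha
    rw [← Ideal.mem_span_singleton]
    have key : a ∈ (Ideal.span {str h W π}).radical := by
      rw [Ideal.radical_eq_sInf, Submodule.mem_sInf]
      rintro Q ⟨hQ, hQp⟩
      by_contra haQ
      let x : X := hW.fromSpec ⟨Q, hQp⟩
      have hxW : x ∈ W := by
        rw [← SetLike.mem_coe, ← hW.range_fromSpec]; exact ⟨_, rfl⟩
      have hxb : ∀ c : Γ(X, W), x ∈ X.basicOpen c ↔ c ∉ Q := fun c => by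
        show (⟨Q, hQp⟩ : PrimeSpectrum Γ(X, W)) ∈ hW.fromSpec ⁻¹ᵁ X.basicOpen c ↔ _
        rw [hW.fromSpec_preimage_basicOpen]
        rfl
      have hxs : h x = IsLocalRing.closedPoint V := by
        refine closedPoint_of_mem h hmax (by_contra fun hx => ?_)
        have h1 : x ∈ X.basicOpen (str h W π) := by
          rw [basicOpen_str]
          exact ⟨hxW, (mem_locus_iff h π x).mpr hx⟩
        exact (hxb _).mp h1 (hQ (Ideal.mem_span_singleton_self _))
      exact ha ((hgen x hxs).mem_open (X.basicOpen a).2 ((hxb a).mpr haQ))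
    obtain ⟨n, hn⟩ := key
    exact radical_str h hmax hW hn

include hW hπ hmax hξ hξs hgen in
theorem str_pow_dvd {a b : Γ(X, W)} (ha : ¬ str h W π ∣ a) :
    ∀ k : ℕ, str h W π ^ k ∣ a * b → str h W π ^ k ∣ b := by
  intro k
  induction k generalizing b with
  | zero => intro _; simp
  | succ k ih =>
    intro hab
    have h1 : str h W π ∣ b := by
      have h2 : str h W π ∣ a * b := (dvd_pow_self _ (Nat.succ_ne_zero k)).trans hab
      rw [dvd_iff h hπ hmax hW hξ hξs hgen] at h2 ha ⊢
      rw [Scheme.basicOpen_mul] at h2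
      intro hb
      exact h2 ⟨not_not.mp ha, hb⟩
    obtain ⟨b', rfl⟩ := h1
    obtain ⟨c, hc⟩ := hab
    have h3 : a * b' = str h W π ^ k * c := by
      refine str_mul_cancel h hπ hW 1 ?_
      linear_combination hc
    obtain ⟨d, hd⟩ := ih ⟨c, h3⟩
    exact ⟨d, by rw [hd]; ring⟩

include hW hπ hmax hξ hξs hgen in
/-- A unit off the special fibre is a power of the generator times a unit. -/
theorem unit_form (f : Γ(X, X.basicOpen (str h W π))) (hf : IsUnit f) :
    ∃ (n : ℕ) (a : Γ(X, W)), (n = 0 ∨ IsUnit a) ∧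
      f * str h (X.basicOpen (str h W π)) π ^ n = X.presheaf.map (homOfLE (X.basicOpen_le _)).op a := by
  classical
  let t := str h W π
  let _ : Algebra Γ(X, W) Γ(X, X.basicOpen t) := (X.presheaf.map (homOfLE (X.basicOpen_le t)).op).hom.toAlgebra
  haveI : IsLocalization.Away t Γ(X, X.basicOpen t) := hW.isLocalization_basicOpen t
  have hre : ∀ a : Γ(X, W), X.presheaf.map (homOfLE (X.basicOpen_le t)).op a = algebraMap _ Γ(X, X.basicOpen t) a :=
    fun _ => rfl
  have ht' : str h (X.basicOpen t) π = algebraMap _ Γ(X, X.basicOpen t) t := by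
    rw [← hre, res_str]
  have hu : IsUnit (algebraMap _ Γ(X, X.basicOpen t) t) := IsLocalization.Away.algebraMap_isUnit t
  have hinj : Function.Injective (algebraMap Γ(X, W) Γ(X, X.basicOpen t)) := by
    refine IsLocalization.injective (M := Submonoid.powers t) Γ(X, X.basicOpen t) ?_
    rintro _ ⟨n, rfl⟩
    exact mem_nonZeroDivisors_iff_right.mpr fun x hx => str_mul_cancel h hπ hW n (by
      rw [mul_zero, mul_comm]; exact hx)
  have hex : ∀ g : Γ(X, X.basicOpen t), ∃ (n : ℕ) (a : Γ(X, W)),
      g * algebraMap _ _ t ^ n = algebraMap _ Γ(X, X.basicOpen t) a := fun g => by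
    obtain ⟨⟨a, ⟨_, n, rfl⟩⟩, hna⟩ := IsLocalization.surj (Submonoid.powers t) g
    exact ⟨n, a, by rw [← map_pow]; exact hna⟩
  obtain ⟨u, rfl⟩ := hf
  let n := Nat.find (hex u)
  obtain ⟨a, ha⟩ := Nat.find_spec (hex u)
  refine ⟨n, a, ?_, by rw [ht', hre]; exact ha⟩
  rcases Nat.eq_zero_or_pos n with hn | hn
  · exact Or.inl hn
  refine Or.inr ?_
  have hta : ¬ t ∣ a := by
    rintro ⟨a', rfl⟩
    refine Nat.find_min (hex u) (Nat.sub_lt hn Nat.one_pos) ⟨a', hu.mul_right_cancel ?_⟩
    rw [mul_assoc, ← pow_succ, Nat.sub_add_cancel hn, ha, map_mul, mul_comm]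
  obtain ⟨m, b, hb⟩ := hex ↑u⁻¹
  have hab : a * b = t ^ (n + m) := hinj (by
    rw [map_mul, map_pow, ← ha, ← hb]
    rw [mul_mul_mul_comm, Units.mul_inv, one_mul, ← pow_add])
  obtain ⟨b', rfl⟩ := str_pow_dvd h hπ hmax hW hξ hξs hgen hta (n + m) ⟨1, by rw [hab, mul_one]⟩
  refine IsUnit.of_mul_eq_one b' (str_mul_cancel h hπ hW (n + m) ?_)
  rw [mul_one]
  linear_combination hab

end Affine

variable [Smooth h]

include hπ hmax in
/-- A unit off the special fibre which is `1` along a section is regular. -/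
theorem mem_range_res (hirr : IsIrreducible (h ⁻¹' {IsLocalRing.closedPoint V}))
    (e : Spec (CommRingCat.of V) ⟶ X) (he : e ≫ h = 𝟙 _) (f : Γ(X, locus h π)) (hf : IsUnit f)
    (hef : e.app (locus h π) f = 1) {W : X.Opens} (hW : IsAffineOpen W) :
    ∃ a : Γ(X, W), X.presheaf.map (homOfLE (inf_le_left : W ⊓ locus h π ≤ W)).op a =
      X.presheaf.map (homOfLE (inf_le_right : W ⊓ locus h π ≤ locus h π)).op f := by
  classical
  let s := IsLocalRing.closedPoint V
  have hcl : IsClosed (h ⁻¹' {s}) :=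
    (IsLocalRing.isClosed_singleton_closedPoint V).preimage h.continuous
  obtain ⟨ξ, hξ⟩ := QuasiSober.sober hirr hcl
  have hξs : h ξ = s := hξ.mem
  have hgen : ∀ x, h x = s → ξ ⤳ x := fun x hx => hξ.specializes hx
  have hs : π ∈ (s : PrimeSpectrum V).asIdeal := by
    show π ∈ IsLocalRing.maximalIdeal V
    exact hmax ▸ Ideal.mem_span_singleton_self π
  -- the restriction to a basic open
  have hle : ∀ U : X.Opens, X.basicOpen (str h U π) ≤ locus h π := fun U => by
    rw [basicOpen_str]; exact inf_le_right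
  have form : ∀ {U : X.Opens}, IsAffineOpen U → ξ ∈ U → ∃ (n : ℕ) (a : Γ(X, U)), (n = 0 ∨ IsUnit a) ∧
      X.presheaf.map (homOfLE (hle U)).op f * str h (X.basicOpen (str h U π)) π ^ n =
        X.presheaf.map (homOfLE (X.basicOpen_le _)).op a := fun {U} hU hξU =>
    unit_form h hπ hmax hU hξU hξs hgen _ (hf.map _)
  by_cases hξW : ξ ∈ W
  · obtain ⟨n, a, hna, ha⟩ := form hW hξW
    -- an affine open around the section
    let x₀ := e s
    have hx₀ : h x₀ = s := by
      show (e ≫ h) s = s
      rw [he]; rfl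
    obtain ⟨W₀, hW₀, hxW₀, -⟩ := exists_isAffineOpen_mem_and_subset (show x₀ ∈ (⊤ : X.Opens) from trivial)
    have hξW₀ : ξ ∈ W₀ := (hgen x₀ hx₀).mem_open W₀.2 hxW₀
    have htop : (⊤ : (Spec (CommRingCat.of V)).Opens) ≤ e ⁻¹ᵁ W₀ := fun y _ =>
      ((IsLocalRing.specializes_closedPoint y).map e.continuous).mem_open W₀.2 hxW₀
    obtain ⟨n₀, a₀, hna₀, ha₀⟩ := form hW₀ hξW₀
    have hn₀ : n₀ = 0 := by
      by_contra hne
      let D := X.basicOpen (str h W₀ π)
      let i : Spec (CommRingCat.of V) ⟶ Spec (CommRingCat.of V) := 𝟙 _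
      let D' := (Spec (CommRingCat.of V)).basicOpen (str i ⊤ π)
      have hD : D' ≤ e ⁻¹ᵁ D := fun y hy => by
        show e y ∈ D
        refine (basicOpen_str h W₀ π).ge ⟨htop (show y ∈ ⊤ from trivial), (mem_locus_iff h π _).mpr ?_⟩
        rw [← Scheme.Hom.comp_apply, he]
        exact (mem_locus_iff i π y).mp hy
      let c := e.appLE W₀ ⊤ htop a₀
      let _ : Algebra Γ(Spec (CommRingCat.of V), ⊤) Γ(Spec (CommRingCat.of V), D') :=
        ((Spec (CommRingCat.of V)).presheaf.map
          (homOfLE ((Spec (CommRingCat.of V)).basicOpen_le (str i ⊤ π))).op).hom.toAlgebra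
      haveI : IsLocalization.Away (str i ⊤ π) Γ(Spec (CommRingCat.of V), D') :=
        (isAffineOpen_top (Spec (CommRingCat.of V))).isLocalization_basicOpen _
      have h2 : e.appLE D D' hD (X.presheaf.map (homOfLE (hle W₀)).op f) = 1 := by
        rw [← CommRingCat.comp_apply, Scheme.Hom.map_appLE, Scheme.Hom.appLE, CommRingCat.comp_apply, hef, map_one]
      have h1 : algebraMap _ Γ(Spec (CommRingCat.of V), D') (str i ⊤ π ^ n₀) = algebraMap _ _ c := by
        have e₂ := congrArg (e.appLE D D' hD) ha₀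
        rw [map_mul, map_pow, h2, one_mul, str_pullback h e he] at e₂
        rw [map_pow, RingHom.algebraMap_toAlgebra, res_str, e₂]
        refine (congr($(Scheme.Hom.map_appLE e hD (homOfLE (X.basicOpen_le _)).op) a₀)).trans ?_
        exact congr($((Scheme.Hom.appLE_map e htop
          (homOfLE ((Spec (CommRingCat.of V)).basicOpen_le (str i ⊤ π))).op).symm) a₀)
      obtain ⟨⟨_, k, rfl⟩, hk⟩ := (IsLocalization.eq_iff_exists (Submonoid.powers (str i ⊤ π)) _).mp h1
      have h4 : str i ⊤ π ^ n₀ = c := str_mul_cancel i hπ (isAffineOpen_top _) k hk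
      have hcu : IsUnit c := (hna₀.resolve_left hne).map _
      have h5 : IsUnit (str i ⊤ π) := (isUnit_pow_iff hne).mp (h4 ▸ hcu)
      have h6 : s ∈ (Spec (CommRingCat.of V)).basicOpen (str i ⊤ π) := by
        rw [Scheme.basicOpen_of_isUnit _ h5]; trivial
      exact (mem_locus_iff i π s).mp h6 hs
    subst hn₀
    have hn : n = 0 := by
      by_contra hne
      obtain ⟨W₁, hW₁, hξW₁, hsub⟩ :=
        exists_isAffineOpen_mem_and_subset (show ξ ∈ W ⊓ W₀ from ⟨hξW, hξW₀⟩)
      let t₁ := str h W₁ π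
      let D₁ := X.basicOpen t₁
      have i₁ : D₁ ≤ X.basicOpen (str h W π) := by
        simp only [D₁, t₁, basicOpen_str]
        exact inf_le_inf_right _ (hsub.trans inf_le_left)
      have i₀ : D₁ ≤ X.basicOpen (str h W₀ π) := by
        simp only [D₁, t₁, basicOpen_str]
        exact inf_le_inf_right _ (hsub.trans inf_le_right)
      have e₁ := congrArg (X.presheaf.map (homOfLE i₁).op) ha
      have e₀ := congrArg (X.presheaf.map (homOfLE i₀).op) ha₀
      rw [map_mul, map_pow, res_str] at e₁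
      rw [pow_zero, mul_one] at e₀
      simp only [← CommRingCat.comp_apply, ← Functor.map_comp, ← op_comp, homOfLE_comp] at e₁ e₀
      rw [e₀] at e₁
      let a' : Γ(X, W₁) := X.presheaf.map (homOfLE (hsub.trans inf_le_left)).op a
      let a₀' : Γ(X, W₁) := X.presheaf.map (homOfLE (hsub.trans inf_le_right)).op a₀
      let _ : Algebra Γ(X, W₁) Γ(X, D₁) := (X.presheaf.map (homOfLE (X.basicOpen_le t₁)).op).hom.toAlgebra
      haveI : IsLocalization.Away t₁ Γ(X, D₁) := hW₁.isLocalization_basicOpen t₁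
      have h6 : algebraMap Γ(X, W₁) Γ(X, D₁) (a₀' * t₁ ^ n) = algebraMap _ _ a' := by
        rw [map_mul, map_pow]
        simp only [RingHom.algebraMap_toAlgebra, t₁, res_str]
        refine Eq.trans ?_ (e₁.trans ?_)
        · refine congrArg₂ (· * ·) ?_ (congrArg (· ^ n) (res_str h (X.basicOpen_le _) π))
          exact congr($((X.presheaf.map_comp (homOfLE (hsub.trans inf_le_right)).op
            (homOfLE (X.basicOpen_le (str h W₁ π))).op).symm) a₀)
        · exact congr($(X.presheaf.map_comp (homOfLE (hsub.trans inf_le_left)).op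
            (homOfLE (X.basicOpen_le (str h W₁ π))).op) a)
      obtain ⟨⟨_, k, rfl⟩, hk⟩ := (IsLocalization.eq_iff_exists (Submonoid.powers t₁) _).mp h6
      have h7 : IsUnit (a₀' * t₁ ^ n) := by
        rw [str_mul_cancel h hπ hW₁ k hk]
        exact (hna.resolve_left hne).map _
      have h8 : IsUnit t₁ := (isUnit_pow_iff hne).mp (isUnit_of_mul_isUnit_right h7)
      have h9 := (basicOpen_str h W₁ π).symm.trans (X.basicOpen_of_isUnit h8)
      have : ξ ∈ W₁ ⊓ locus h π := h9.symm ▸ hξW₁
      exact (mem_locus_iff h π ξ).mp this.2 (hξs ▸ hs)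
    subst hn
    rw [pow_zero, mul_one] at ha
    have he₂ := basicOpen_str h W π
    have := congrArg (X.presheaf.map (homOfLE he₂.ge).op) ha
    simp only [← CommRingCat.comp_apply, ← Functor.map_comp, ← op_comp, homOfLE_comp] at this
    exact ⟨a, this.symm⟩
  · have hsub : W ≤ locus h π := fun x hx => by
      rw [mem_locus_iff]
      intro hx'
      exact hξW ((hgen x (closedPoint_of_mem h hmax hx')).mem_open W.2 hx)
    refine ⟨X.presheaf.map (homOfLE hsub).op f, ?_⟩
    simp only [← CommRingCat.comp_apply, ← Functor.map_comp, ← op_comp, homOfLE_comp]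

end Groth.Agent.GrpHomExt
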