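import Groth.Agent.GrpHomExt.Core
import Groth.Agent.MultTypeLib.LocalToGlobal
import Mathlib.RingTheory.Unramified.LocalRing
import Mathlib.RingTheory.DiscreteValuationRing.Basic

/-!
# Extension over a discrete valuation ring

A morphism from the generic locus of a smooth group to a group of multiplicative type, sending the unit to the
unit, has regular coordinate functions.
-/

universe u

open CategoryTheory Limits AlgebraicGeometry TensorProduct TopologicalSpace

set_option autoImplicit false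
set_option backward.isDefEq.respectTransparency false
set_option backward.isDefEq.respectTransparency.types false

noncomputable section

namespace Groth.Agent.GrpHomExt

theorem str_comp_specMap {V V' : Type u} [CommRing V] [CommRing V'] (φ : V →+* V') {Y : Scheme.{u}}
    (k : Y ⟶ Spec (CommRingCat.of V')) (U : Y.Opens) (v : V) :
    str (k ≫ Spec.map (CommRingCat.ofHom φ)) U v = str k U (φ v) := by
  simp only [str, CommRingCat.hom_comp, RingHom.comp_apply, Scheme.Hom.appLE, Scheme.Hom.comp_app]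
  congr 2
  exact congr($((Scheme.ΓSpecIso_inv_naturality (CommRingCat.ofHom φ)).symm) v)

theorem exists_extend {R V C : Type u} [CommRing R] [CommRing V] [CommRing C] [Algebra R V] [Algebra R C]
    {G : Type u} [CommRing G] (s : V →+* G) (φ : C →+* G)
    (hφ : ∀ r, φ (algebraMap R C r) = s (algebraMap R V r)) :
    ∃ Φ : V ⊗[R] C →+* G, ∀ v c, Φ (v ⊗ₜ[R] c) = s v * φ c := by
  let _ : Algebra R G := (s.comp (algebraMap R V)).toAlgebra
  exact ⟨(Algebra.TensorProduct.lift (⟨s, fun _ => rfl⟩ : V →ₐ[R] G) (⟨φ, hφ⟩ : C →ₐ[R] G)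
    fun _ _ => .all _ _).toRingHom, fun v c => Algebra.TensorProduct.lift_tmul _ _ _ v c⟩

theorem unit_extend {R V C : Type u} [CommRing R] [CommRing V] [CommRing C] [Algebra R V] [Bialgebra R C]
    {G : Type u} [CommRing G] (s : V →+* G) (φ : C →+* G) (Φ : V ⊗[R] C →+* G)
    (hΦ : ∀ v c, Φ (v ⊗ₜ[R] c) = s v * φ c) {G' : Type u} [CommRing G'] (ε : G →+* G') (s' : V →+* G')
    (hs : ∀ v, ε (s v) = s' v) (hφ : ∀ c, ε (φ c) = s' (algebraMap R V (Coalgebra.counit c))) (x : V ⊗[R] C) :
    ε (Φ x) = s' (Coalgebra.counit (R := V) x) := by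
  induction x using TensorProduct.induction_on with
  | zero => simp
  | add a b ha hb => simp only [map_add, ha, hb]
  | tmul v c =>
    rw [hΦ, map_mul, hs, hφ, TensorProduct.counit_tmul, ← map_mul, Algebra.smul_def]
    simp [mul_comm]

set_option maxHeartbeats 1000000 in
theorem mem_range_dvr {R : Type u} [CommRing R] {V : Type u} [CommRing V] [IsDomain V] [IsDiscreteValuationRing V]
    [Algebra R V] {π : V} (hπ : Irreducible π) {X : Scheme.{u}} (h : X ⟶ Spec (CommRingCat.of V)) [Smooth h]
    [GeometricallyIrreducible h] (e : Spec (CommRingCat.of V) ⟶ X) (he : e ≫ h = 𝟙 _) {C : Type u} [CommRing C]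
    [HopfAlgebra R C] [Algebra.FiniteType R C] (hC : SGA3b.IsMultType V (V ⊗[R] C))
    (φ : C →+* Γ(X, locus h π)) (hφ : ∀ r, φ (algebraMap R C r) = str h _ (algebraMap R V r))
    (hunit : ∀ c, e.app (locus h π) (φ c) =
      str (𝟙 _) (e ⁻¹ᵁ locus h π) (algebraMap R V (Coalgebra.counit c)))
    {W : X.Opens} (hW : IsAffineOpen W) (c : C) :
    ∃ a : Γ(X, W), X.presheaf.map (homOfLE (inf_le_left : W ⊓ locus h π ≤ W)).op a =
      X.presheaf.map (homOfLE (inf_le_right : W ⊓ locus h π ≤ locus h π)).op (φ c) := by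
  classical
  have hmax : Ideal.span {π} = IsLocalRing.maximalIdeal V :=
    ((IsDiscreteValuationRing.irreducible_iff_uniformizer π).mp hπ).symm
  -- an étale local extension which splits the group
  let A := V ⊗[R] C
  haveI : Algebra.FinitePresentation V A := Algebra.FinitePresentation.of_finiteType.mp inferInstance
  let p := IsLocalRing.maximalIdeal V
  obtain ⟨E, _, _, _, ⟨q, hq, hqp⟩, hd⟩ := MultTypeLib.exists_etale_nhd_diag (R := V) (A := A) p
    (MultTypeLib.isMultType_baseChange _ hC)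
  let V' := Localization.AtPrime q
  obtain ⟨M, _, ⟨ψ⟩⟩ : SGA3b.IsDiag V' (V' ⊗[V] A) :=
    MultTypeLib.isDiag_baseChange E V' hd
  haveI : Module.Flat V V' := Module.Flat.trans V E V'
  haveI : Algebra.FormallyUnramified E V' := Algebra.FormallyUnramified.of_isLocalization q.primeCompl
  haveI : Algebra.FormallyUnramified V V' := Algebra.FormallyUnramified.comp V E V'
  haveI : Algebra.EssFiniteType V V' := Algebra.EssFiniteType.comp V E V'
  haveI hloc : IsLocalHom (algebraMap V V') :=
    ((IsLocalRing.local_hom_TFAE _).out 0 4).mpr (by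
      rw [IsScalarTower.algebraMap_eq V E V', ← Ideal.comap_comap]
      exact (congrArg (Ideal.comap (algebraMap V E)) (Localization.AtPrime.comap_maximalIdeal (I := q))).trans hqp)
  haveI : Module.FaithfullyFlat V V' := Module.FaithfullyFlat.of_flat_of_isLocalHom
  let π' := algebraMap V V' π
  have hπ' : π' ∈ nonZeroDivisors V' := mem_nonZeroDivisors_iff_right.mpr fun x hx =>
    Module.Flat.isSMulRegular_of_nonZeroDivisors (M := V') (mem_nonZeroDivisors_of_ne_zero hπ.ne_zero)
      (show π • x = π • 0 by rw [smul_zero, Algebra.smul_def, mul_comm]; exact hx)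
  have hmax' : Ideal.span {π'} = IsLocalRing.maximalIdeal V' := by
    rw [← Algebra.FormallyUnramified.map_maximalIdeal (R := V) (S := V'), ← hmax, Ideal.map_span,
      Set.image_singleton]
  -- base change of the scheme
  let σ : Spec (CommRingCat.of V') ⟶ Spec (CommRingCat.of V) := Spec.map (CommRingCat.ofHom (algebraMap V V'))
  haveI : IsAffineHom σ := inferInstance
  haveI : IsAffineHom (pullback.fst h σ) := MorphismProperty.pullback_fst _ _ ‹IsAffineHom σ›
  let qq := pullback.fst h σ
  let h' := pullback.snd h σ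
  haveI : Smooth h' := MorphismProperty.pullback_snd _ _ ‹Smooth h›
  let e' : Spec (CommRingCat.of V') ⟶ pullback h σ :=
    pullback.lift (σ ≫ e) (𝟙 _) (by rw [Category.assoc, he, Category.comp_id, Category.id_comp])
  have he' : e' ≫ h' = 𝟙 _ := pullback.lift_snd ..
  have heq : e' ≫ qq = σ ≫ e := pullback.lift_fst ..
  let o' := locus h' π'
  have hle : o' ≤ qq ⁻¹ᵁ locus h π := fun x hx => by
    show qq x ∈ locus h π
    rw [mem_locus_iff]
    rw [mem_locus_iff] at hx
    rw [← Scheme.Hom.comp_apply, pullback.condition, Scheme.Hom.comp_apply]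
    exact hx
  have hstr : ∀ {U : X.Opens} {U' : (pullback h σ).Opens} (i : U' ≤ qq ⁻¹ᵁ U) (v : V),
      qq.appLE U U' i (str h U v) = str h' U' (algebraMap V V' v) := fun i v => by
    rw [str_pullback h qq (k := h' ≫ σ) pullback.condition, str_comp_specMap]
  let φ₁ : C →+* Γ(pullback h σ, o') := (qq.appLE _ o' hle).hom.comp φ
  obtain ⟨Φ₁, hΦ₁⟩ := exists_extend ((str h' o').comp (algebraMap V V')) φ₁
    (fun r => (congrArg (qq.appLE _ o' hle) (hφ r)).trans (hstr hle _))
  obtain ⟨Φ, hΦ⟩ := exists_extend (R := V) (str h' o') Φ₁ (fun v => by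
    rw [Algebra.TensorProduct.algebraMap_apply, Algebra.algebraMap_self, RingHom.id_apply, hΦ₁, map_one, mul_one]
    rfl)
  have hu : ∀ x, e'.app o' (Φ x) = str (𝟙 _) (e' ⁻¹ᵁ o') (Coalgebra.counit (R := V') x) := by
    refine unit_extend (str h' o') Φ₁ Φ hΦ (e'.app o').hom (str (𝟙 _) (e' ⁻¹ᵁ o'))
      (fun v => by rw [Scheme.Hom.app_eq_appLE]; exact str_pullback h' e' he' le_rfl v) fun y => ?_
    refine unit_extend ((str h' o').comp (algebraMap V V')) φ₁ Φ₁ hΦ₁ (e'.app o').hom
      ((str (𝟙 _) (e' ⁻¹ᵁ o')).comp (algebraMap V V'))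
      (fun v => by rw [Scheme.Hom.app_eq_appLE]; exact str_pullback h' e' he' le_rfl _) (fun c => ?_) y
    have hle2 : e' ⁻¹ᵁ o' ≤ σ ⁻¹ᵁ (e ⁻¹ᵁ locus h π) := fun y hy => by
      show (σ ≫ e) y ∈ locus h π
      rw [← heq]
      exact hle hy
    calc e'.app o' (φ₁ c) = (e' ≫ qq).appLE (locus h π) (e' ⁻¹ᵁ o') (fun y hy => hle hy) (φ c) := by
            rw [← Scheme.Hom.appLE_comp_appLE e' qq _ o' _ hle le_rfl, CommRingCat.comp_apply,
              Scheme.Hom.app_eq_appLE]
            rfl
      _ = σ.appLE (e ⁻¹ᵁ locus h π) (e' ⁻¹ᵁ o') hle2 (e.app (locus h π) (φ c)) := by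
            simp only [heq, Scheme.Hom.comp_appLE, CommRingCat.comp_apply]
      _ = _ := by
            rw [hunit, str_pullback (𝟙 _) σ (k := 𝟙 _ ≫ σ) (by simp), str_comp_specMap]
            rfl
  -- the characters are regular
  have hirr : IsIrreducible (h' ⁻¹' {IsLocalRing.closedPoint V'}) := by
    haveI : UniversallyOpen h' := inferInstance
    exact h'.isIrreducible_preimage h'.isOpenMap isIrreducible_singleton
  let W' := qq ⁻¹ᵁ W
  have hW' : IsAffineOpen W' := hW.preimage qq
  let r₁ := ((pullback h σ).presheaf.map (homOfLE (inf_le_left : W' ⊓ o' ≤ W')).op).hom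
  let r₂ := ((pullback h σ).presheaf.map (homOfLE (inf_le_right : W' ⊓ o' ≤ o')).op).hom
  have hall : ∀ x, r₂ (Φ x) ∈ r₁.range := by
    have hchar : ∀ m, r₂ (Φ (ψ.symm (MonoidAlgebra.single m 1))) ∈ r₁.range := fun m => by
      refine mem_range_res h' hπ' hmax' hirr e' he' _ ?_ ?_ hW'
      · refine IsUnit.map _ (IsUnit.map ψ.symm ?_)
        exact (Group.isUnit m).map (MonoidAlgebra.of V' M)
      · rw [hu, CoalgHomClass.counit_comp_apply, MonoidAlgebra.counit_single, CommSemiring.counit_apply, map_one]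
    let ν : MonoidAlgebra V' M →ₐ[V'] V' ⊗[V] A := ψ.symm.toAlgEquiv.toAlgHom
    suffices h1 : ∀ y, r₂ (Φ (ν y)) ∈ r₁.range from fun x => by
      obtain ⟨y, rfl⟩ := ψ.symm.surjective x
      exact h1 y
    intro y
    induction y using MonoidAlgebra.induction_linear with
    | zero => simp
    | add a b ha hb => rw [map_add, map_add, map_add]; exact add_mem ha hb
    | single m r =>
      have : (MonoidAlgebra.single m r : MonoidAlgebra V' M) = algebraMap V' _ r * MonoidAlgebra.single m (1 : V') := by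
        rw [← Algebra.smul_def]; simp
      rw [this, map_mul, AlgHom.commutes, map_mul, map_mul]
      refine mul_mem ⟨str h' W' r, ?_⟩ (hchar m)
      rw [Algebra.TensorProduct.algebraMap_apply, Algebra.algebraMap_self, RingHom.id_apply, hΦ, map_one, mul_one]
      exact (res_str h' _ r).trans (res_str h' _ r).symm
  obtain ⟨b, hb⟩ := hall ((1 : V') ⊗ₜ ((1 : V) ⊗ₜ c))
  rw [hΦ, hΦ₁, map_one, map_one, one_mul, one_mul] at hb
  -- descent
  let t := str h W π
  have hqo : X.basicOpen t = W ⊓ locus h π := basicOpen_str h W π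
  let rW := (X.presheaf.map (homOfLE (inf_le_left : W ⊓ locus h π ≤ W)).op).hom
  let rO := (X.presheaf.map (homOfLE (inf_le_right : W ⊓ locus h π ≤ locus h π)).op).hom
  obtain ⟨n, a, ha⟩ : ∃ (n : ℕ) (a : Γ(X, W)), rO (φ c) * rW (t ^ n) = rW a := by
    have key : ∀ (U : X.Opens) (hU : U ≤ W) (_ : X.basicOpen t = U) (z : Γ(X, U)), ∃ (n : ℕ) (a : Γ(X, W)),
        z * X.presheaf.map (homOfLE hU).op (t ^ n) = X.presheaf.map (homOfLE hU).op a := by
      rintro U hU rfl z
      let _ : Algebra Γ(X, W) Γ(X, X.basicOpen t) :=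
        (X.presheaf.map (homOfLE (X.basicOpen_le t)).op).hom.toAlgebra
      haveI : IsLocalization.Away t Γ(X, X.basicOpen t) := hW.isLocalization_basicOpen t
      obtain ⟨⟨a, ⟨_, n, rfl⟩⟩, hna⟩ := IsLocalization.surj (Submonoid.powers t) z
      exact ⟨n, a, hna⟩
    exact key _ inf_le_left hqo (rO (φ c))
  let t' := str h' W' π'
  have htt : qq.app W t = t' := by rw [Scheme.Hom.app_eq_appLE]; exact hstr le_rfl π
  have hle3 : W' ⊓ o' ≤ qq ⁻¹ᵁ (W ⊓ locus h π) := fun x hx => ⟨hx.1, hle hx.2⟩
  have e1 : r₁ (qq.app W a) = r₁ (b * t' ^ n) := by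
    have := congrArg (qq.appLE _ _ hle3) ha
    simp only [map_mul, rW, rO, ← CommRingCat.comp_apply, Scheme.Hom.map_appLE] at this
    rw [map_mul, hb, ← htt, ← map_pow]
    simp only [φ₁, r₁, r₂, RingHom.comp_apply, ← CommRingCat.comp_apply, Scheme.Hom.app_eq_appLE,
      Scheme.Hom.appLE_map]
    refine Eq.trans ?_ this.symm
    exact congr($(Scheme.Hom.appLE_map qq (le_refl W') (homOfLE (inf_le_left : W' ⊓ o' ≤ W')).op) a)
  have e2 : qq.app W a = b * t' ^ n := by
    have key : ∀ (U : (pullback h σ).Opens) (hU : U ≤ W') (_ : (pullback h σ).basicOpen t' = U),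
        (pullback h σ).presheaf.map (homOfLE hU).op (qq.app W a) =
          (pullback h σ).presheaf.map (homOfLE hU).op (b * t' ^ n) → qq.app W a = b * t' ^ n := by
      rintro U hU rfl hxy
      let _ : Algebra Γ(pullback h σ, W') Γ(pullback h σ, (pullback h σ).basicOpen t') :=
        ((pullback h σ).presheaf.map (homOfLE ((pullback h σ).basicOpen_le t')).op).hom.toAlgebra
      haveI : IsLocalization.Away t' Γ(pullback h σ, (pullback h σ).basicOpen t') :=
        hW'.isLocalization_basicOpen t'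
      obtain ⟨⟨_, k, rfl⟩, hk⟩ := (IsLocalization.eq_iff_exists (Submonoid.powers t') _).mp hxy
      exact str_mul_cancel h' hπ' hW' k hk
    exact key _ inf_le_left (basicOpen_str h' W' π') e1
  have hff : (qq.app W).hom.FaithfullyFlat := by
    haveI : Surjective σ := ⟨PrimeSpectrum.comap_surjective_of_faithfullyFlat⟩
    haveI : Flat σ := (HasRingHomProperty.Spec_iff (P := @Flat)).mpr (RingHom.flat_algebraMap_iff.mpr ‹_›)
    haveI : Flat qq := MorphismProperty.pullback_fst _ _ ‹Flat σ›
    haveI : Surjective qq := MorphismProperty.pullback_fst _ _ ‹Surjective σ›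
    rw [RingHom.FaithfullyFlat.iff_flat_and_comap_surjective]
    refine ⟨?_, fun P => ?_⟩
    · rw [Scheme.Hom.app_eq_appLE]
      exact HasRingHomProperty.appLE @Flat qq inferInstance ⟨W, hW⟩ ⟨W', hW'⟩ le_rfl
    · obtain ⟨x, hx⟩ := qq.surjective (hW.fromSpec P)
      have hxW : x ∈ W' := by
        show qq x ∈ W
        rw [hx, ← SetLike.mem_coe, ← hW.range_fromSpec]; exact ⟨_, rfl⟩
      refine ⟨hW'.primeIdealOf ⟨x, hxW⟩, ?_⟩
      rw [Scheme.Hom.app_eq_appLE]
      refine (IsAffineOpen.comap_primeIdealOf_appLE W hW W' hW' le_rfl hxW).trans ?_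
      exact hW.fromSpec.isOpenEmbedding.injective ((hW.fromSpec_primeIdealOf _).trans hx)
  obtain ⟨a₂, ha₂⟩ : t ^ n ∣ a := by
    let _ : Algebra Γ(X, W) Γ(pullback h σ, W') := (qq.app W).hom.toAlgebra
    haveI : Module.FaithfullyFlat Γ(X, W) Γ(pullback h σ, W') := hff
    rw [← Ideal.mem_span_singleton,
      ← Ideal.comap_map_eq_self_of_faithfullyFlat (B := Γ(pullback h σ, W')) (Ideal.span {t ^ n}),
      Ideal.map_span, Set.image_singleton, Ideal.mem_comap, Ideal.mem_span_singleton]
    exact ⟨b, by simp only [RingHom.algebraMap_toAlgebra, map_pow]; rw [e2, htt, mul_comm]⟩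
  refine ⟨a₂, ?_⟩
  rw [ha₂, map_mul, mul_comm] at ha
  refine ((IsUnit.mul_right_inj ?_).mp ha).symm
  rw [map_pow]
  refine IsUnit.pow n ?_
  have key : ∀ (U : X.Opens) (hU : U ≤ W) (_ : X.basicOpen t = U),
      IsUnit (X.presheaf.map (homOfLE hU).op t) := by
    rintro U hU rfl
    exact RingedSpace.isUnit_res_basicOpen _ t
  exact key _ inf_le_left hqo

end Groth.Agent.GrpHomExt
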