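import Groth.Agent.S7125
import Mathlib.Algebra.Module.LocalizedModule.Basic
import Mathlib.RingTheory.Ideal.KrullsHeightTheorem
import Mathlib.RingTheory.Ideal.MinimalPrime.Noetherian
import Mathlib.RingTheory.Flat.Basic
import Mathlib.RingTheory.Localization.FractionRing

/-!
# Regularity at height one primes of the base
-/

universe u

open TensorProduct

namespace Groth.Agent.GrpHomExt

variable {R : Type u} [CommRing R] [IsDomain R] [IsNoetherianRing R] [IsIntegrallyClosed R]
  (K : Type u) [Field K] [Algebra R K] [IsFractionRing R K] {B : Type u} [CommRing B] [Algebra R B] [Module.Flat R B]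

omit [IsNoetherianRing R] [IsIntegrallyClosed R] in
theorem includeLeft_injective : Function.Injective fun b : B => b ⊗ₜ[R] (1 : K) := by
  intro x y hxy
  have h := Module.Flat.lTensor_preserves_injective_linearMap (M := B) (Algebra.linearMap R K)
    (IsFractionRing.injective R K)
  have h2 : x ⊗ₜ[R] (1 : R) = y ⊗ₜ[R] (1 : R) := h (by simpa using hxy)
  simpa using congrArg (TensorProduct.rid R B) h2

/-- An element of `B ⊗ K` which is in `B` near every height one prime of the base is in `B`. -/
theorem mem_range_of_height_one (z : B ⊗[R] K)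
    (h : ∀ (p : Ideal R) [p.IsPrime], p.height = 1 → ∃ s ∉ p, ∃ b : B, s • z = b ⊗ₜ[R] (1 : K)) :
    ∃ b : B, z = b ⊗ₜ[R] (1 : K) := by
  classical
  obtain ⟨a, ha, x, hx⟩ : ∃ a : R, a ≠ 0 ∧ ∃ x : B, a • z = x ⊗ₜ[R] (1 : K) := by
    clear h
    induction z using TensorProduct.induction_on with
    | zero => exact ⟨1, one_ne_zero, 0, by simp⟩
    | tmul b k =>
      obtain ⟨n, d, hd, rfl⟩ := IsFractionRing.div_surjective (A := R) k
      refine ⟨d, nonZeroDivisors.ne_zero hd, n • b, ?_⟩
      rw [← tmul_smul, smul_tmul, Algebra.smul_def, Algebra.smul_def, mul_one, mul_div_cancel₀]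
      exact (map_ne_zero_iff _ (IsFractionRing.injective R K)).mpr (nonZeroDivisors.ne_zero hd)
    | add y w hy hw =>
      obtain ⟨a, ha, x, hx⟩ := hy
      obtain ⟨c, hc, x', hx'⟩ := hw
      exact ⟨a * c, mul_ne_zero ha hc, c • x + a • x', by
        rw [smul_add, mul_smul a c w, hx', mul_comm, mul_smul, hx, add_tmul, smul_tmul', smul_tmul']⟩
  let I := Ideal.span {a}
  haveI : Finite I.minimalPrimes := (Ideal.finite_minimalPrimes_of_isNoetherianRing R I).to_subtype
  let _ : Fintype I.minimalPrimes := Fintype.ofFinite _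
  let L : I.minimalPrimes → Type u := fun q =>
    haveI := q.2.1.1
    LocalizedModule q.1.primeCompl (R ⧸ I)
  let _ : ∀ q, AddCommGroup (L q) := fun q => by
    haveI := q.2.1.1
    exact inferInstanceAs (AddCommGroup (LocalizedModule q.1.primeCompl (R ⧸ I)))
  let _ : ∀ q, Module R (L q) := fun q => by
    haveI := q.2.1.1
    exact inferInstanceAs (Module R (LocalizedModule q.1.primeCompl (R ⧸ I)))
  let μ : ∀ q, (R ⧸ I) →ₗ[R] L q := fun q =>
    haveI := q.2.1.1
    LocalizedModule.mkLinearMap q.1.primeCompl (R ⧸ I)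
  have ht : ∀ p : Ideal R, p ∈ I.minimalPrimes → p.height = 1 := fun p hp => by
    haveI := hp.1.1
    refine le_antisymm (Ideal.height_le_one_of_isPrincipal_of_mem_minimalPrimes I p hp) ?_
    rw [Order.one_le_iff_ne_zero, Ne, Ideal.height_eq_zero_iff_eq_bot]
    intro hb
    exact ha ((Ideal.mem_bot).mp (hb ▸ hp.1.2 (Ideal.mem_span_singleton_self a)))
  let ψ : (R ⧸ I) →ₗ[R] (∀ q, L q) := LinearMap.pi μ
  have hψ : Function.Injective ψ := by
    rw [injective_iff_map_eq_zero]
    intro w hw
    obtain ⟨y, rfl⟩ := Ideal.Quotient.mk_surjective w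
    rw [Ideal.Quotient.eq_zero_iff_mem, Ideal.mem_span_singleton]
    refine S7125.dvd_of_forall_height_one ha fun p _ hp hap => ?_
    obtain ⟨q, hq, hqp⟩ := Ideal.exists_minimalPrimes_le (show I ≤ p from (Ideal.span_singleton_le_iff_mem p).mpr hap)
    haveI := hq.1.1
    have hqe : q = p := by
      rcases hqp.lt_or_eq with hlt | he
      · have := Ideal.height_strict_mono_of_isPrime hlt
        rw [ht q hq, hp] at this
        exact absurd this (lt_irrefl _)
      · exact he
    subst hqe
    have h0 : LocalizedModule.mk (Ideal.Quotient.mk I y) (1 : q.primeCompl) = LocalizedModule.mk 0 1 := by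
      rw [LocalizedModule.zero_mk]
      exact congr_fun hw ⟨q, hq⟩
    obtain ⟨⟨s, hs⟩, hs'⟩ := LocalizedModule.mk_eq.mp h0
    obtain ⟨c, hc⟩ : a ∣ s * y := by
      rw [← Ideal.mem_span_singleton, ← Ideal.Quotient.eq_zero_iff_mem, map_mul]
      simpa [Submonoid.smul_def, Algebra.smul_def] using hs'
    have hu := IsLocalization.map_units (Localization.AtPrime q) (⟨s, hs⟩ : q.primeCompl)
    refine (IsUnit.dvd_mul_left hu).mp ?_
    exact Dvd.intro (algebraMap R (Localization.AtPrime q) c) (by rw [← map_mul, ← map_mul, ← hc])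
  have hx0 : x ⊗ₜ[R] (1 : R ⧸ I) = 0 := by
    apply Module.Flat.lTensor_preserves_injective_linearMap (M := B) ψ hψ
    rw [LinearMap.lTensor_tmul, map_zero]
    apply (TensorProduct.piRight R R B L).injective
    simp only [map_zero]
    funext q
    rw [TensorProduct.piRight_apply, TensorProduct.piRightHom_tmul, Pi.zero_apply]
    haveI := q.2.1.1
    obtain ⟨s, hs, b, hb⟩ := h q.1 (ht q.1 q.2)
    have hsb : s • x = a • b := by
      apply includeLeft_injective (R := R) K
      show (s • x) ⊗ₜ[R] (1 : K) = (a • b) ⊗ₜ[R] 1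
      rw [← smul_tmul', ← smul_tmul', ← hx, ← hb, smul_comm]
    let r : LocalizedModule q.1.primeCompl (R ⧸ I) := LocalizedModule.mk 1 ⟨s, hs⟩
    have h1 : s • r = μ q 1 := by
      show s • LocalizedModule.mk (1 : R ⧸ I) ⟨s, hs⟩ = LocalizedModule.mk 1 1
      rw [LocalizedModule.smul'_mk]
      exact LocalizedModule.mk_cancel (s := ⟨s, hs⟩) (1 : R ⧸ I)
    have h2 : a • r = 0 := by
      show a • LocalizedModule.mk (1 : R ⧸ I) ⟨s, hs⟩ = 0
      rw [LocalizedModule.smul'_mk, Algebra.smul_def, mul_one, Ideal.Quotient.algebraMap_eq,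
        Ideal.Quotient.eq_zero_iff_mem.mpr (Ideal.mem_span_singleton_self a), LocalizedModule.zero_mk]
    show x ⊗ₜ[R] (μ q 1 : L q) = 0
    rw [← h1]
    show x ⊗ₜ[R] (s • r) = 0
    rw [← smul_tmul, hsb, smul_tmul, h2, tmul_zero]
  obtain ⟨b₀, rfl⟩ : ∃ b₀ : B, x = a • b₀ := by
    have := congrArg (TensorProduct.tensorQuotEquivQuotSMul B I) hx0
    rw [map_zero, show (1 : R ⧸ I) = Ideal.Quotient.mk I 1 from (map_one _).symm,
      TensorProduct.tensorQuotEquivQuotSMul_tmul_mk, one_smul, Submodule.Quotient.mk_eq_zero,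
      Submodule.ideal_span_singleton_smul, Submodule.mem_smul_pointwise_iff_exists] at this
    obtain ⟨b₀, -, hb₀⟩ := this
    exact ⟨b₀, hb₀.symm⟩
  refine ⟨b₀, ?_⟩
  have hu : IsUnit (algebraMap R (B ⊗[R] K) a) := by
    have : algebraMap R (B ⊗[R] K) a = Algebra.TensorProduct.includeRight (algebraMap R K a) :=
      (Algebra.TensorProduct.includeRight.commutes a).symm
    rw [this]
    exact ((map_ne_zero_iff _ (IsFractionRing.injective R K)).mpr ha).isUnit.map _
  refine hu.mul_left_cancel ?_
  rw [← Algebra.smul_def, ← Algebra.smul_def, hx, ← smul_tmul']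

end Groth.Agent.GrpHomExt
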