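import Groth.Agent.GrpHomExt.Dvr
import Groth.Agent.GrpHomExt.Hartogs

/-!
# Extension from the generic fibre over an affine normal base
-/

universe u

open CategoryTheory Limits AlgebraicGeometry TensorProduct TopologicalSpace

set_option autoImplicit false
set_option backward.isDefEq.respectTransparency false
set_option backward.isDefEq.respectTransparency.types false

noncomputable section

namespace Groth.Agent.GrpHomExt

theorem isLocalizationAway_fraction {V : Type u} [CommRing V] [IsDomain V] [IsDiscreteValuationRing V] {π : V}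
    (hπ : Irreducible π) (K : Type u) [Field K] [Algebra V K] [IsFractionRing V K] : IsLocalization.Away π K := by
  have hinj := IsFractionRing.injective V K
  have hπ0 : algebraMap V K π ≠ 0 := (map_ne_zero_iff _ hinj).mpr hπ.ne_zero
  refine IsLocalization.Away.mk π hπ0.isUnit (fun z => ?_) (fun a b h => ⟨0, by rw [hinj h]⟩)
  obtain ⟨a, b, hb, rfl⟩ := IsFractionRing.div_surjective (A := V) z
  obtain ⟨n, u, rfl⟩ := IsDiscreteValuationRing.eq_unit_mul_pow_irreducible (nonZeroDivisors.ne_zero hb) hπ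
  refine ⟨n, a * (↑u⁻¹ : V), ?_⟩
  have hu : algebraMap V K u ≠ 0 := (map_ne_zero_iff _ hinj).mpr u.ne_zero
  have hu' : algebraMap V K (↑u⁻¹ : V) = (algebraMap V K u)⁻¹ := eq_inv_of_mul_eq_one_left (by
    rw [← map_mul, Units.inv_mul, map_one])
  rw [map_mul, map_pow, map_mul, hu']
  field_simp

theorem mem_nhds_smul {R B T : Type u} [CommRing R] [CommRing B] [Algebra R B] [CommRing T] [Algebra R T]
    (p : Ideal R) [p.IsPrime] [IsLocalization.AtPrime T p] (z : B ⊗[R] T) :
    ∃ s ∉ p, ∃ b : B, s • z = b ⊗ₜ[R] (1 : T) := by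
  induction z using TensorProduct.induction_on with
  | zero => exact ⟨1, p.primeCompl.one_mem, 0, by simp⟩
  | tmul b t =>
    obtain ⟨⟨r, s⟩, hrs⟩ := IsLocalization.surj p.primeCompl t
    refine ⟨s, s.2, r • b, ?_⟩
    rw [← tmul_smul, smul_tmul, Algebra.smul_def, Algebra.smul_def, mul_one, mul_comm, hrs]
  | add y w hy hw =>
    obtain ⟨s, hs, x, hx⟩ := hy
    obtain ⟨s', hs', x', hx'⟩ := hw
    exact ⟨s * s', p.primeCompl.mul_mem hs hs', s' • x + s • x', by
      rw [smul_add, mul_smul s s' w, hx', mul_comm, mul_smul, hx, add_tmul, smul_tmul', smul_tmul']⟩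

theorem str_specMap {V A : Type u} [CommRing V] [CommRing A] (f : V →+* A) (v : V) :
    str (Spec.map (CommRingCat.ofHom f)) ⊤ v = (Scheme.ΓSpecIso (CommRingCat.of A)).inv (f v) := by
  have := str_comp_specMap f (𝟙 (Spec (CommRingCat.of A))) ⊤ v
  rw [Category.id_comp] at this
  rw [this]
  simp [str, Scheme.Hom.appLE, Scheme.Hom.id_app]

set_option maxHeartbeats 2000000 in
theorem exists_lift {R : Type u} [CommRing R] [IsDomain R] [IsNoetherianRing R] [IsIntegrallyClosed R]
    {K : Type u} [Field K] [Algebra R K] [IsFractionRing R K]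
    {H : Scheme.{u}} (h : H ⟶ Spec (CommRingCat.of R)) [Smooth h] [GeometricallyIrreducible h]
    (e : Spec (CommRingCat.of R) ⟶ H) (he : e ≫ h = 𝟙 _)
    {C : Type u} [CommRing C] [HopfAlgebra R C] [Algebra.FiniteType R C] (hC : SGA3b.IsMultType R C)
    (g : pullback h (Spec.map (CommRingCat.ofHom (algebraMap R K))) ⟶ Spec (CommRingCat.of C))
    (hg : g ≫ Spec.map (CommRingCat.ofHom (algebraMap R C)) = pullback.fst _ _ ≫ h)
    (hunit : pullback.lift (Spec.map (CommRingCat.ofHom (algebraMap R K)) ≫ e) (𝟙 _)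
        (by rw [Category.assoc, he, Category.comp_id, Category.id_comp]) ≫ g =
      Spec.map (CommRingCat.ofHom (algebraMap R K)) ≫
        Spec.map (CommRingCat.ofHom (Bialgebra.counitAlgHom R C).toRingHom))
    {B : Type u} [CommRing B] (jW : Spec (CommRingCat.of B) ⟶ H) [IsOpenImmersion jW] :
    ∃ w : Spec (CommRingCat.of B) ⟶ Spec (CommRingCat.of C),
      w ≫ Spec.map (CommRingCat.ofHom (algebraMap R C)) = jW ≫ h ∧
      ∀ (Z : Scheme.{u}) (a : Z ⟶ Spec (CommRingCat.of B))
        (b : Z ⟶ pullback h (Spec.map (CommRingCat.ofHom (algebraMap R K)))),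
        a ≫ jW = b ≫ pullback.fst _ _ → a ≫ w = b ≫ g := by
  classical
  let _ : Algebra R B := (Spec.preimage (jW ≫ h)).hom.toAlgebra
  have hjW : jW ≫ h = Spec.map (CommRingCat.ofHom (algebraMap R B)) := (Spec.map_preimage _).symm
  haveI : Module.Flat R B := RingHom.flat_algebraMap_iff.mp ((HasRingHomProperty.Spec_iff (P := @Flat)).mp
    (hjW ▸ (inferInstance : Flat (jW ≫ h))))
  let η : Spec (CommRingCat.of K) ⟶ Spec (CommRingCat.of R) := Spec.map (CommRingCat.ofHom (algebraMap R K))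
  let jL : Spec (CommRingCat.of (B ⊗[R] K)) ⟶ Spec (CommRingCat.of B) :=
    Spec.map (CommRingCat.ofHom Algebra.TensorProduct.includeLeftRingHom)
  let jR : Spec (CommRingCat.of (B ⊗[R] K)) ⟶ Spec (CommRingCat.of K) :=
    Spec.map (CommRingCat.ofHom (Algebra.TensorProduct.includeRight : K →ₐ[R] B ⊗[R] K).toRingHom)
  let κ : Spec (CommRingCat.of (B ⊗[R] K)) ⟶ pullback h η := pullback.lift (jL ≫ jW) jR (by
    rw [Category.assoc, hjW]
    simp only [jL, jR, η, ← Spec.map_comp, ← CommRingCat.ofHom_comp]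
    congr 2
    exact RingHom.ext fun r => ((Algebra.TensorProduct.includeRight : K →ₐ[R] B ⊗[R] K).commutes r).symm)
  let φK : C →+* B ⊗[R] K := (Spec.preimage (κ ≫ g)).hom
  have hκg : κ ≫ g = Spec.map (CommRingCat.ofHom φK) := (Spec.map_preimage _).symm
  have key : ∀ c, ∃ b : B, φK c = b ⊗ₜ[R] (1 : K) := by
    intro c
    refine mem_range_of_height_one K (φK c) fun p _ hp => ?_
    let Rp := Localization.AtPrime p
    haveI : IsDiscreteValuationRing Rp := S7125.dvr_atPrime p hp
    obtain ⟨π, hπ⟩ := IsDiscreteValuationRing.exists_irreducible Rp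
    have hu : ∀ y : p.primeCompl, IsUnit (algebraMap R K y) := fun y => isUnit_iff_ne_zero.mpr
      ((map_ne_zero_iff _ (IsFractionRing.injective R K)).mpr fun h0 => y.2 (h0 ▸ p.zero_mem))
    let _ : Algebra Rp K := (IsLocalization.lift hu).toAlgebra
    haveI : IsScalarTower R Rp K := IsScalarTower.of_algebraMap_eq fun r => (IsLocalization.lift_eq hu r).symm
    haveI : IsFractionRing Rp K :=
      IsFractionRing.isFractionRing_of_isDomain_of_isLocalization p.primeCompl Rp K
    haveI := isLocalizationAway_fraction hπ K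
    let σ : Spec (CommRingCat.of Rp) ⟶ Spec (CommRingCat.of R) := Spec.map (CommRingCat.ofHom (algebraMap R Rp))
    let ηp : Spec (CommRingCat.of K) ⟶ Spec (CommRingCat.of Rp) := Spec.map (CommRingCat.ofHom (algebraMap Rp K))
    haveI : IsOpenImmersion ηp := IsOpenImmersion.of_isLocalization π
    have hηp : ηp ≫ σ = η := by
      simp only [ηp, σ, η, ← Spec.map_comp, ← CommRingCat.ofHom_comp, ← IsScalarTower.algebraMap_eq]
    have hrange : Set.range ηp = {x | π ∉ (x : PrimeSpectrum Rp).asIdeal} :=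
      PrimeSpectrum.localization_away_comap_range K π
    let hp' := pullback.snd h σ
    haveI : Smooth hp' := MorphismProperty.pullback_snd _ _ ‹Smooth h›
    let ep : Spec (CommRingCat.of Rp) ⟶ pullback h σ :=
      pullback.lift (σ ≫ e) (𝟙 _) (by rw [Category.assoc, he, Category.comp_id, Category.id_comp])
    have hep : ep ≫ hp' = 𝟙 _ := pullback.lift_snd ..
    let o := locus hp' π
    have ho : Set.range (o.ι ≫ hp') ⊆ Set.range ηp := by
      rintro _ ⟨x, rfl⟩
      rw [hrange]
      exact (mem_locus_iff hp' π _).mp x.2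
    let m₀ := IsOpenImmersion.lift ηp (o.ι ≫ hp') ho
    have hm₀ : m₀ ≫ ηp = o.ι ≫ hp' := IsOpenImmersion.lift_fac ..
    let m : (o : Scheme.{u}) ⟶ pullback h η := pullback.lift (o.ι ≫ pullback.fst h σ) m₀ (by
      rw [← hηp, reassoc_of% hm₀, Category.assoc, pullback.condition])
    let γ := m ≫ g
    let φ : C →+* Γ(pullback h σ, o) := o.topIso.hom.hom.comp (str γ ⊤)
    have hφ' : ∀ c, o.ι.appLE o ⊤ (by simp) (φ c) = str γ ⊤ c := fun c => by
      simp only [φ, RingHom.comp_apply, Scheme.Opens.ι_appLE, Scheme.Opens.topIso_hom]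
      rw [← CommRingCat.comp_apply, ← Functor.map_comp]
      exact (congr($((pullback h σ).presheaf.map_id _) (str γ ⊤ c))).trans rfl
    have hinj : ∀ {Y : Scheme.{u}} (D : Y.Opens) (hD : (⊤ : (D : Scheme.{u}).Opens) ≤ D.ι ⁻¹ᵁ D)
        (x y : Γ(Y, D)), D.ι.appLE D ⊤ hD x = D.ι.appLE D ⊤ hD y → x = y := fun {Y} D hD x y hxy => by
      rw [Scheme.Opens.ι_appLE] at hxy
      have h2 := congrArg (Y.presheaf.map (eqToHom D.ι_image_top.symm).op) hxy
      have hid : ∀ z : Γ(Y, D), Y.presheaf.map (eqToHom D.ι_image_top.symm).op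
          (Y.presheaf.map (homOfLE (by simp : D.ι ''ᵁ ⊤ ≤ D)).op z) = z := fun z => by
        rw [← CommRingCat.comp_apply, ← Functor.map_comp]
        exact congr($(Y.presheaf.map_id _) z)
      exact (hid x).symm.trans (h2.trans (hid y))
    have hφ : ∀ r, φ (algebraMap R C r) = str hp' o (algebraMap R Rp r) := fun r => by
      refine hinj o (by simp) _ _ ?_
      rw [hφ', ← str_comp_specMap (algebraMap R C) γ, str_pullback hp' o.ι rfl,
        ← str_comp_specMap (algebraMap R Rp) (o.ι ≫ hp')]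
      congr 2
      simp only [γ, Category.assoc, hg]
      rw [← pullback.condition, pullback.lift_fst_assoc, Category.assoc]
    have hcounit : ∀ c, ep.app o (φ c) = str (𝟙 _) (ep ⁻¹ᵁ o) (algebraMap R Rp (Coalgebra.counit c)) := fun c => by
      let D := ep ⁻¹ᵁ o
      let eD : (D : Scheme.{u}) ⟶ o := ep ∣_ o
      refine hinj D (by simp) _ _ ?_
      have hq : eD ≫ m = (eD ≫ m₀) ≫ pullback.lift (η ≫ e) (𝟙 _)
          (by rw [Category.assoc, he, Category.comp_id, Category.id_comp]) := by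
        refine pullback.hom_ext ?_ ?_
        · simp only [m, Category.assoc, pullback.lift_fst]
          simp only [eD, morphismRestrict_ι_assoc, ← hηp, Category.assoc, reassoc_of% hm₀]
          rw [reassoc_of% hep]
          simp [ep]
        · simp only [m, Category.assoc, pullback.lift_snd, Category.comp_id]
      have hγ : eD ≫ γ = (D.ι ≫ σ) ≫ Spec.map (CommRingCat.ofHom (Bialgebra.counitAlgHom R C).toRingHom) := by
        simp only [γ, reassoc_of% hq]
        erw [hunit]
        rw [show Spec.map (CommRingCat.ofHom (algebraMap R K)) = ηp ≫ σ from hηp.symm]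
        simp only [eD, ← hηp, Category.assoc, reassoc_of% hm₀, morphismRestrict_ι_assoc]
        rw [reassoc_of% hep]
      rw [str_pullback (𝟙 _) D.ι (Category.comp_id _), ← str_comp_specMap (algebraMap R Rp) D.ι]
      rw [show str (D.ι ≫ σ) ⊤ (Coalgebra.counit c) = str (eD ≫ γ) ⊤ c by
        rw [hγ]; exact (str_comp_specMap (Bialgebra.counitAlgHom R C).toRingHom (D.ι ≫ σ) ⊤ c).symm]
      rw [← str_pullback γ eD (U := ⊤) (U' := ⊤) rfl le_top, ← hφ']
      simp only [← CommRingCat.comp_apply, Scheme.Hom.app_eq_appLE, Scheme.Hom.appLE_comp_appLE, eD,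
        morphismRestrict_ι]
      rfl
    let W := pullback.fst h σ ⁻¹ᵁ jW.opensRange
    haveI : IsAffineHom σ := inferInstance
    haveI : IsAffineHom (pullback.fst h σ) := MorphismProperty.pullback_fst _ _ ‹IsAffineHom σ›
    obtain ⟨a, ha⟩ := mem_range_dvr hπ hp' ep hep (MultTypeLib.isMultType_baseChange Rp hC) φ hφ hcounit
      (W := W) ((isAffineOpen_opensRange jW).preimage _) c
    let jLp : Spec (CommRingCat.of (B ⊗[R] Rp)) ⟶ Spec (CommRingCat.of B) :=
      Spec.map (CommRingCat.ofHom Algebra.TensorProduct.includeLeftRingHom)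
    let jRp : Spec (CommRingCat.of (B ⊗[R] Rp)) ⟶ Spec (CommRingCat.of Rp) :=
      Spec.map (CommRingCat.ofHom (Algebra.TensorProduct.includeRight : Rp →ₐ[R] B ⊗[R] Rp).toRingHom)
    let κp : Spec (CommRingCat.of (B ⊗[R] Rp)) ⟶ pullback h σ := pullback.lift (jLp ≫ jW) jRp (by
      rw [Category.assoc, hjW]
      simp only [jLp, jRp, σ, ← Spec.map_comp, ← CommRingCat.ofHom_comp]
      congr 2
      exact RingHom.ext fun r => ((Algebra.TensorProduct.includeRight : Rp →ₐ[R] B ⊗[R] Rp).commutes r).symm)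
    have hκW : (⊤ : (Spec (CommRingCat.of (B ⊗[R] Rp))).Opens) ≤ κp ⁻¹ᵁ W := fun x _ => by
      show (κp ≫ pullback.fst h σ) x ∈ jW.opensRange
      rw [pullback.lift_fst]
      exact ⟨_, rfl⟩
    let τ : B ⊗[R] Rp →ₐ[R] B ⊗[R] K :=
      Algebra.TensorProduct.map (AlgHom.id R B) (IsScalarTower.toAlgHom R Rp K)
    let tt : Spec (CommRingCat.of (B ⊗[R] K)) ⟶ Spec (CommRingCat.of (B ⊗[R] Rp)) :=
      Spec.map (CommRingCat.ofHom τ.toRingHom)
    have htL : tt ≫ jLp = jL := by
      simp only [tt, jLp, jL, ← Spec.map_comp, ← CommRingCat.ofHom_comp]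
      congr 2
      exact RingHom.ext fun b => by simp [τ]
    have htR : tt ≫ jRp = jR ≫ ηp := by
      simp only [tt, jRp, jR, ηp, ← Spec.map_comp, ← CommRingCat.ofHom_comp]
      congr 2
    have htto : ∀ x, (tt ≫ κp) x ∈ o := fun x => by
      rw [mem_locus_iff hp' π]
      have h1 : hp' ((tt ≫ κp) x) = ηp (jR x) := by
        rw [← Scheme.Hom.comp_apply, ← Scheme.Hom.comp_apply]
        congr 2
        simp only [hp', κp, Category.assoc, pullback.lift_snd, htR]
      rw [h1]
      exact (Set.ext_iff.mp hrange _).mp ⟨_, rfl⟩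
    let lam : Spec (CommRingCat.of (B ⊗[R] K)) ⟶ o := IsOpenImmersion.lift o.ι (tt ≫ κp) (by
      rintro _ ⟨x, rfl⟩
      rw [Scheme.Opens.range_ι]
      exact htto x)
    have hlam : lam ≫ o.ι = tt ≫ κp := IsOpenImmersion.lift_fac ..
    have hlm : lam ≫ m = κ := by
      refine pullback.hom_ext ?_ ?_
      · simp only [m, κ, Category.assoc, pullback.lift_fst, reassoc_of% hlam]
        simp only [κp, pullback.lift_fst, reassoc_of% htL]
      · simp only [m, κ, Category.assoc, pullback.lift_snd]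
        rw [← cancel_mono ηp, Category.assoc, hm₀, reassoc_of% hlam]
        simp only [hp', κp, pullback.lift_snd, htR]
    let bp := (Scheme.ΓSpecIso (CommRingCat.of (B ⊗[R] Rp))).hom (κp.appLE W ⊤ hκW a)
    have hbp : φK c = τ bp := by
      apply (Scheme.ΓSpecIso (CommRingCat.of (B ⊗[R] K))).symm.commRingCatIsoToRingEquiv.injective
      show (Scheme.ΓSpecIso (CommRingCat.of (B ⊗[R] K))).inv (φK c) = (Scheme.ΓSpecIso (CommRingCat.of (B ⊗[R] K))).inv (τ bp)
      rw [← str_specMap, ← hκg, ← hlm, show (lam ≫ m) ≫ g = lam ≫ γ from Category.assoc _ _ _,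
        ← str_pullback γ lam (U := ⊤) (U' := ⊤) rfl le_top, ← hφ']
      have hle : (⊤ : (Spec (CommRingCat.of (B ⊗[R] K))).Opens) ≤ (tt ≫ κp) ⁻¹ᵁ (W ⊓ o) := fun x _ =>
        ⟨hκW (show tt x ∈ ⊤ from trivial), htto x⟩
      have := congrArg ((tt ≫ κp).appLE _ ⊤ hle) ha
      rw [← CommRingCat.comp_apply, ← CommRingCat.comp_apply, Scheme.Hom.map_appLE, Scheme.Hom.map_appLE] at this
      simp only [← CommRingCat.comp_apply, Scheme.Hom.appLE_comp_appLE, hlam]
      refine this.symm.trans ?_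
      simp only [bp, ← CommRingCat.comp_apply]
      rw [← Scheme.Hom.appLE_comp_appLE tt κp W ⊤ ⊤ hκW le_top, CommRingCat.comp_apply]
      have hn := Scheme.ΓSpecIso_inv_naturality (CommRingCat.ofHom τ.toRingHom)
      show _ = (CommRingCat.ofHom τ.toRingHom ≫ (Scheme.ΓSpecIso _).inv) bp
      rw [hn, CommRingCat.comp_apply]
      have h3 : ∀ y, tt.appLE ⊤ ⊤ le_top y = (Spec.map (CommRingCat.ofHom τ.toRingHom)).appTop y := fun y =>
        congr($(Scheme.Hom.appLE_eq_app (f := tt) (U := ⊤)) y)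
      rw [h3]
      refine congrArg _ ?_
      exact (congr($((Scheme.ΓSpecIso (CommRingCat.of (B ⊗[R] Rp))).hom_inv_id) _)).symm
    obtain ⟨s, hs, b, hb⟩ := mem_nhds_smul p bp
    refine ⟨s, hs, b, ?_⟩
    rw [hbp, ← map_smul, hb]
    simp [τ]
  choose ψ₀ hψ₀ using key
  have hi := includeLeft_injective (R := R) (B := B) K
  let ψ : C →+* B :=
    { toFun := ψ₀
      map_one' := hi (by show ψ₀ 1 ⊗ₜ[R] (1 : K) = 1 ⊗ₜ 1; rw [← hψ₀, map_one]; rfl)
      map_mul' := fun x y => hi (by
        show ψ₀ (x * y) ⊗ₜ[R] (1 : K) = (ψ₀ x * ψ₀ y) ⊗ₜ 1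
        rw [← hψ₀, map_mul, hψ₀, hψ₀, Algebra.TensorProduct.tmul_mul_tmul, mul_one])
      map_zero' := hi (by show ψ₀ 0 ⊗ₜ[R] (1 : K) = 0 ⊗ₜ 1; rw [← hψ₀, map_zero, zero_tmul])
      map_add' := fun x y => hi (by
        show ψ₀ (x + y) ⊗ₜ[R] (1 : K) = (ψ₀ x + ψ₀ y) ⊗ₜ 1
        rw [← hψ₀, map_add, hψ₀, hψ₀, add_tmul]) }
  let w : Spec (CommRingCat.of B) ⟶ Spec (CommRingCat.of C) := Spec.map (CommRingCat.ofHom ψ)
  have hw : jL ≫ w = κ ≫ g := by
    rw [hκg]
    simp only [jL, w, ← Spec.map_comp, ← CommRingCat.ofHom_comp]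
    congr 2
    exact RingHom.ext fun c => (hψ₀ c).symm
  refine ⟨w, ?_, fun Z a b hab => ?_⟩
  · have h1 : (jL ≫ w) ≫ Spec.map (CommRingCat.ofHom (algebraMap R C)) = jL ≫ jW ≫ h := by
      rw [hw, Category.assoc, hg, pullback.lift_fst_assoc, Category.assoc]
    rw [hjW] at h1 ⊢
    simp only [jL, w, ← Spec.map_comp, ← CommRingCat.ofHom_comp] at h1 ⊢
    have h2 := congrArg CommRingCat.Hom.hom (Spec.map_injective h1)
    congr 2
    exact RingHom.ext fun r => hi (RingHom.congr_fun h2 r)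
  · let k : Z ⟶ Spec (CommRingCat.of (B ⊗[R] K)) := pullback.lift a (b ≫ pullback.snd _ _) (by
      rw [← hjW, reassoc_of% hab, Category.assoc, pullback.condition]) ≫ (pullbackSpecIso R B K).hom
    have hkL : k ≫ jL = a := by
      simp only [k, jL, Category.assoc]
      rw [← pullbackSpecIso_inv_fst, Iso.hom_inv_id_assoc, pullback.lift_fst]
    have hkR : k ≫ jR = b ≫ pullback.snd _ _ := by
      simp only [k, jR, Category.assoc]
      erw [← pullbackSpecIso_inv_snd]
      rw [Iso.hom_inv_id_assoc, pullback.lift_snd]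
    have hkκ : k ≫ κ = b := by
      refine pullback.hom_ext ?_ ?_
      · rw [Category.assoc, pullback.lift_fst, reassoc_of% hkL, hab]
      · rw [Category.assoc, pullback.lift_snd, hkR]
    rw [← hkL, Category.assoc, hw, reassoc_of% hkκ]

end Groth.Agent.GrpHomExt
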